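import Cfsg.Agent.H972.Seitz.Rep

/-!
# Mixing two components of a symplectic representation without invariant isotropic subspaces
-/

set_option autoImplicit false
set_option linter.unusedSectionVars false
set_option linter.unusedTactic false

namespace Cfsg.Agent.H972.Seitz.Rep

open Finset

variable {F V A : Type*} [Field F] [AddCommGroup V] [Module F V] [CommGroup A] [Finite A]

/-- An elementary abelian group of isometries of a symplectic space without invariant totally isotropic subspaces. -/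
structure Ctx (ρ : A →* Module.End F V) (f : V →ₗ[F] V →ₗ[F] F) (p : ℕ) : Prop where
  exp : ∀ a : A, a ^ p = 1
  pF : (p : F) ≠ 0
  p2 : p ≠ 2
  p3 : p = 3 → (2 : F) ≠ 0
  alt : ∀ v, f v v = 0
  nd : ∀ w, (∀ v, f v w = 0) → w = 0
  inv : ∀ a v w, f (ρ a v) (ρ a w) = f v w
  aniso : ∀ W : Submodule F V, (∀ a, ∀ w ∈ W, ρ a w ∈ W) → (∀ x ∈ W, ∀ y ∈ W, f x y = 0) → W = ⊥

variable {ρ : A →* Module.End F V} {f : V →ₗ[F] V →ₗ[F] F} {p : ℕ} [hp : Fact p.Prime]

namespace Ctx

theorem swap (C : Ctx ρ f p) (v w : V) : f v w = - f w v := by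
  have h := C.alt (v + w)
  simp only [map_add, LinearMap.add_apply, C.alt, zero_add, add_zero] at h
  exact eq_neg_of_add_eq_zero_right h

theorem fix_zero (C : Ctx ρ f p) {v : V} (hv : ∀ a, ρ a v = v) : v = 0 := by
  have h := C.aniso (Submodule.span F {v}) ?_ ?_
  · have h1 : v ∈ Submodule.span F {v} := Submodule.mem_span_singleton_self v
    rw [h] at h1
    exact (Submodule.mem_bot F).1 h1
  · intro a w hw
    obtain ⟨c, rfl⟩ := Submodule.mem_span_singleton.1 hw
    rw [map_smul, hv]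
    exact Submodule.smul_mem _ _ (Submodule.mem_span_singleton_self v)
  · intro x hx y hy
    obtain ⟨c, rfl⟩ := Submodule.mem_span_singleton.1 hx
    obtain ⟨d, rfl⟩ := Submodule.mem_span_singleton.1 hy
    simp only [map_smul, LinearMap.smul_apply, C.alt, smul_zero]

/-- elements outside `B` have no fixed points on `U B` -/
theorem fpf (C : Ctx ρ f p) {B : Subgroup A} (hB : B.index = p) {b : A} (hb : b ∉ B) {v : V} (hv : v ∈ U ρ B)
    (h : ρ b v = v) : v = 0 := by
  apply C.fix_zero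
  intro a
  have h1 : B ⊔ Subgroup.zpowers b ≤ St ρ v := sup_le ((mem_U_iff ρ).1 hv) (by
    rw [Subgroup.zpowers_le]; exact h)
  rw [sup_eq_top hB hb] at h1
  exact h1 (Subgroup.mem_top a)

theorem N_zero (C : Ctx ρ f p) {B : Subgroup A} (hB : B.index = p) {b : A} (hb : b ∉ B) {v : V} (hv : v ∈ U ρ B) :
    N ρ p b v = 0 := by
  refine C.fpf hB hb ?_ (N_fixed ρ (C.exp b) v)
  refine Submodule.sum_mem _ fun k _ => U_inv ρ B _ hv

theorem orth (C : Ctx ρ f p) {B B' : Subgroup A} (hB : B.index = p) (hB' : B'.index = p) (hne : B ≠ B') {u u' : V}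
    (hu : u ∈ U ρ B) (hu' : u' ∈ U ρ B') : f u u' = 0 := by
  obtain ⟨b, hb', hb⟩ : ∃ b, b ∈ B' ∧ b ∉ B := by
    by_contra h
    push Not at h
    have h1 := Subgroup.relIndex_mul_index (show B' ≤ B from h)
    rw [hB, hB'] at h1
    have h2 : B'.relIndex B = 1 := Nat.eq_of_mul_eq_mul_right hp.1.pos (by rw [h1, one_mul])
    rw [Subgroup.relIndex_eq_one] at h2
    exact hne (le_antisymm h2 h)
  have h1 := C.N_zero hB hb hu
  have h2 : f (N ρ p b u) u' = (p : F) * f u u' := by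
    rw [N, map_sum, LinearMap.sum_apply]
    have h3 : ∀ k ∈ range p, f (ρ (b ^ k) u) u' = f u u' := by
      intro k _
      conv_lhs => rw [← hu' (b ^ k) (B'.pow_mem hb' k)]
      exact C.inv _ _ _
    rw [Finset.sum_congr rfl h3, Finset.sum_const, Finset.card_range, nsmul_eq_mul]
  rw [h1, map_zero, LinearMap.zero_apply] at h2
  exact (mul_eq_zero.1 h2.symm).resolve_left C.pF

theorem inv' (C : Ctx ρ f p) (a : A) (v w : V) : f (ρ a v) w = f v (ρ a⁻¹ w) := by
  rw [← C.inv a v, ← rho_mul, mul_inv_cancel, rho_one]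

end Ctx

/-- A mixing operator. -/
structure MixOp (ρ : A →* Module.End F V) (f : V →ₗ[F] V →ₗ[F] F) (B B' : Subgroup A) (c : A)
    (T T' : Module.End F V) : Prop where
  mapT : ∀ v, T v ∈ U ρ B'
  mapT' : ∀ v, T' v ∈ U ρ B
  kerT : ∀ v ∈ U ρ B', T v = 0
  kerT' : ∀ v ∈ U ρ B, T' v = 0
  adj : ∀ v w, f (T v) w = - f v (T' w)
  adj' : ∀ v w, f (T' v) w = - f v (T w)
  comm : ∀ v, ρ c (T v) = T (ρ c v)
  comm' : ∀ v, ρ c (T' v) = T' (ρ c v)

namespace MixOp

variable {B B' : Subgroup A} {c : A} {T T' : Module.End F V}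

theorem commz (M : MixOp ρ f B B' c T T') (v : V) : ρ c⁻¹ (T v) = T (ρ c⁻¹ v) := by
  have h := M.comm (ρ c⁻¹ v)
  rw [← rho_mul, mul_inv_cancel, rho_one] at h
  rw [← h, ← rho_mul, inv_mul_cancel, rho_one]

theorem commz' (M : MixOp ρ f B B' c T T') (v : V) : ρ c⁻¹ (T' v) = T' (ρ c⁻¹ v) := by
  have h := M.comm' (ρ c⁻¹ v)
  rw [← rho_mul, mul_inv_cancel, rho_one] at h
  rw [← h, ← rho_mul, inv_mul_cancel, rho_one]

theorem symm (M : MixOp ρ f B B' c T T') : MixOp ρ f B B' c⁻¹ (-T) (-T') where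
  mapT v := Submodule.neg_mem _ (M.mapT v)
  mapT' v := Submodule.neg_mem _ (M.mapT' v)
  kerT v hv := by rw [LinearMap.neg_apply, M.kerT v hv, neg_zero]
  kerT' v hv := by rw [LinearMap.neg_apply, M.kerT' v hv, neg_zero]
  adj v w := by rw [LinearMap.neg_apply, LinearMap.neg_apply, map_neg, map_neg, LinearMap.neg_apply, M.adj]
  adj' v w := by rw [LinearMap.neg_apply, LinearMap.neg_apply, map_neg, map_neg, LinearMap.neg_apply, M.adj']
  comm v := by rw [LinearMap.neg_apply, LinearMap.neg_apply, map_neg, M.commz]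
  comm' v := by rw [LinearMap.neg_apply, LinearMap.neg_apply, map_neg, M.commz']

/-- `c + S` is injective -/
theorem inj (C : Ctx ρ f p) (hB : B.index = p) (hcB : c ∉ B) (M : MixOp ρ f B B' c T T') {v : V}
    (h : ρ c v + (T v + T' v) = 0) : v = 0 := by
  -- the two components
  have h1 : v = (-(ρ c⁻¹ (T' v))) + (-(ρ c⁻¹ (T v))) := by
    have h2 : ρ c v = -(T v + T' v) := eq_neg_of_add_eq_zero_left h
    have h3 : v = ρ c⁻¹ (ρ c v) := by rw [← rho_mul, inv_mul_cancel, rho_one]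
    conv_lhs => rw [h3, h2, map_neg, map_add, neg_add, add_comm]
  set v₁ := -(ρ c⁻¹ (T' v)) with hv₁
  set v₂ := -(ρ c⁻¹ (T v)) with hv₂
  have hm1 : v₁ ∈ U ρ B := Submodule.neg_mem _ (U_inv ρ B _ (M.mapT' v))
  have hm2 : v₂ ∈ U ρ B' := Submodule.neg_mem _ (U_inv ρ B' _ (M.mapT v))
  have hT : T v = T v₁ := by rw [h1, map_add, M.kerT v₂ hm2, add_zero]
  have hT' : T' v = T' v₂ := by rw [h1, map_add, M.kerT' v₁ hm1, zero_add]
  have hc1 : ρ c v₁ = - T' v₂ := by
    rw [hv₁, map_neg, ← rho_mul, mul_inv_cancel, rho_one, hT']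
  have hc2 : ρ c v₂ = - T v₁ := by
    rw [hv₂, map_neg, ← rho_mul, mul_inv_cancel, rho_one, hT]
  have hcc : ρ c (ρ c v₁) = T' (T v₁) := by
    rw [hc1, map_neg, M.comm', hc2, map_neg, neg_neg]
  -- the isotropic subspace
  let W : Submodule F V :=
    { carrier := {w | w ∈ U ρ B ∧ ρ c (ρ c w) = T' (T w)}
      add_mem' := by
        rintro x y ⟨hx, hx'⟩ ⟨hy, hy'⟩
        exact ⟨Submodule.add_mem _ hx hy, by rw [map_add, map_add, hx', hy', map_add, map_add]⟩
      zero_mem' := ⟨Submodule.zero_mem _, by rw [map_zero, map_zero, map_zero, map_zero]⟩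
      smul_mem' := by
        rintro r x ⟨hx, hx'⟩
        exact ⟨Submodule.smul_mem _ _ hx, by rw [map_smul, map_smul, hx', map_smul, map_smul]⟩ }
  have hWc : ∀ w ∈ W, ρ c w ∈ W := by
    rintro w ⟨hw, hw'⟩
    refine ⟨U_inv ρ B c hw, ?_⟩
    rw [← M.comm, ← M.comm', hw']
  have hWcc : ∀ n : ℕ, ∀ w ∈ W, ρ (c ^ n) w ∈ W := by
    intro n
    induction n with
    | zero => intro w hw; rwa [pow_zero, rho_one]
    | succ n ih => intro w hw; rw [pow_succ, rho_mul]; exact ih _ (hWc w hw)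
  let H : Subgroup A :=
    { carrier := {a | ∀ w ∈ U ρ B, T' (T (ρ a w)) = ρ a (T' (T w))}
      mul_mem' := by
        intro a b ha hb w hw
        rw [rho_mul, ha _ (U_inv ρ B b hw), hb w hw, rho_mul]
      one_mem' := by
        intro w hw
        rw [rho_one, rho_one]
      inv_mem' := by
        intro a ha w hw
        have h4 := ha _ (U_inv ρ B a⁻¹ hw)
        rw [← rho_mul, mul_inv_cancel, rho_one] at h4
        rw [h4, ← rho_mul, inv_mul_cancel, rho_one] }
  have hH : H = ⊤ := by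
    rw [eq_top_iff, ← sup_eq_top hB hcB]
    refine sup_le ?_ ?_
    · intro b hb w hw
      rw [hw b hb, (M.mapT' (T w)) b hb]
    · rw [Subgroup.zpowers_le]
      intro w hw
      rw [← M.comm, ← M.comm']
  have hWA : ∀ a, ∀ w ∈ W, ρ a w ∈ W := by
    rintro a w ⟨hw, hw'⟩
    refine ⟨U_inv ρ B a hw, ?_⟩
    have h4 : a ∈ H := by rw [hH]; exact Subgroup.mem_top a
    rw [h4 w hw, ← hw', rho_comm ρ c a, rho_comm ρ c a]
  have hself : ∀ x y : V, x ∈ W → y ∈ W → f (ρ (c ^ 4) x) y = f x y := by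
    intro x y hx hy
    have h5 : ∀ z, z ∈ W → f (ρ c (ρ c z)) y = f z (ρ c (ρ c y)) := by
      intro z hz
      rw [hz.2, hy.2, M.adj', M.adj, neg_neg]
    have h6 : ρ (c ^ 4) x = ρ c (ρ c (ρ c (ρ c x))) := by
      rw [← rho_mul, ← rho_mul, ← rho_mul]
      simp only [pow_succ, pow_zero, one_mul, mul_assoc]
    rw [h6, h5 _ (hWc _ (hWc _ hx)), C.inv, C.inv]
  have hW : W = ⊥ := by
    apply C.aniso W hWA
    intro x hx y hy
    have hc4 : c ^ 4 ∉ B := pow_notMem (C.exp c) hcB (by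
      rw [show (4 : ℕ) = 2 ^ 2 by norm_num]
      exact Nat.Coprime.pow_left 2 ((Nat.coprime_primes Nat.prime_two hp.1).2 (Ne.symm C.p2)))
    have h7 : ∀ n : ℕ, f (ρ ((c ^ 4) ^ n) x) y = f x y := by
      intro n
      induction n with
      | zero => rw [pow_zero, rho_one]
      | succ n ih =>
        rw [pow_succ', rho_mul, hself _ _ _ hy, ih]
        rw [← pow_mul]
        exact hWcc _ x hx
    have h8 := C.N_zero hB hc4 hx.1
    have h9 : f (N ρ p (c ^ 4) x) y = (p : F) * f x y := by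
      rw [N, map_sum, LinearMap.sum_apply, Finset.sum_congr rfl fun n _ => h7 n, Finset.sum_const,
        Finset.card_range, nsmul_eq_mul]
    rw [h8, map_zero, LinearMap.zero_apply] at h9
    exact (mul_eq_zero.1 h9.symm).resolve_left C.pF
  have h10 : v₁ ∈ W := ⟨hm1, hcc⟩
  rw [hW, Submodule.mem_bot] at h10
  have h11 : v₂ = 0 := by
    have h12 : ρ c v₂ = 0 := by rw [hc2, h10, map_zero, neg_zero]
    have h13 : v₂ = ρ c⁻¹ (ρ c v₂) := by rw [← rho_mul, inv_mul_cancel, rho_one]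
    rw [h13, h12, map_zero]
  rw [h1, h10, h11, add_zero]

end MixOp

end Cfsg.Agent.H972.Seitz.Rep
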