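import Cfsg.Agent.H972.Seitz.Mix

/-!
# The mixing isometry and the closure argument
-/

set_option autoImplicit false
set_option linter.unusedSectionVars false
set_option linter.unusedTactic false

namespace Cfsg.Agent.H972.Seitz.Rep

open Finset

variable {F V A : Type*} [Field F] [AddCommGroup V] [Module F V] [CommGroup A] [Finite A]
  [FiniteDimensional F V]

variable {ρ : A →* Module.End F V} {f : V →ₗ[F] V →ₗ[F] F} {p : ℕ} [hp : Fact p.Prime]

/-- the operators commuting with all `B`, as isometries -/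
def Good (ρ : A →* Module.End F V) (f : V →ₗ[F] V →ₗ[F] F) (p : ℕ) (Δ : Set V) : Prop :=
  ∀ B : Subgroup A, B.index = p → ∀ g : V ≃ₗ[F] V, (∀ v w, f (g v) (g w) = f v w) →
    (∀ b ∈ B, ∀ v, g (ρ b v) = ρ b (g v)) → ∀ v ∈ Δ, g v ∈ Δ

namespace MixOp

variable {B B' : Subgroup A} {c : A} {T T' : Module.End F V}

/-- the mixing isometry -/
theorem exists_iso (C : Ctx ρ f p) (hB : B.index = p) (hB' : B'.index = p) (hne : B ≠ B') (hcB : c ∉ B)
    (hcB' : c ∉ B') (M : MixOp ρ f B B' c T T')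
    (hD : ∀ d ∈ B ⊓ B', ∀ v, T (ρ d v) = ρ d (T v)) (hD' : ∀ d ∈ B ⊓ B', ∀ v, T' (ρ d v) = ρ d (T' v))
    {Δ : Set V} (hΔ : Good ρ f p Δ) (hU : ∀ v ∈ U ρ B, v ∈ Δ) {z : V} (hz : z ∈ U ρ B) :
    (z + T' (T z)) + (ρ c (T z) + ρ c⁻¹ (T z)) ∈ Δ := by
  let X : Module.End F V := ρ c + (T + T')
  let X' : Module.End F V := ρ c⁻¹ - (T + T')
  have hX : Function.Injective X := by
    rw [← LinearMap.ker_eq_bot, LinearMap.ker_eq_bot']
    intro v hv
    exact M.inj C hB hcB hv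
  have hcB2 : c⁻¹ ∉ B := fun h => hcB ((Subgroup.inv_mem_iff B).1 h)
  have hX' : Function.Injective X' := by
    rw [← LinearMap.ker_eq_bot, LinearMap.ker_eq_bot']
    intro v hv
    refine M.symm.inj C hB hcB2 (v := v) ?_
    have h1 : ρ c⁻¹ v - (T v + T' v) = 0 := hv
    rw [LinearMap.neg_apply, LinearMap.neg_apply, ← neg_add, ← sub_eq_add_neg, h1]
  have hcomm : ∀ v, X (X' v) = X' (X v) := by
    intro v
    change ρ c (ρ c⁻¹ v - (T v + T' v)) + (T (ρ c⁻¹ v - (T v + T' v)) + T' (ρ c⁻¹ v - (T v + T' v))) =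
      ρ c⁻¹ (ρ c v + (T v + T' v)) - (T (ρ c v + (T v + T' v)) + T' (ρ c v + (T v + T' v)))
    simp only [map_add, map_sub, M.comm, M.comm', M.commz, M.commz', rho_comm ρ c c⁻¹]
    abel
  have hadj : ∀ v w, f (X v) w = f v (X' w) := by
    intro v w
    change f (ρ c v + (T v + T' v)) w = f v (ρ c⁻¹ w - (T w + T' w))
    simp only [map_add, map_sub, LinearMap.add_apply, M.adj v w, M.adj' v w, C.inv' c v w]
    ring
  let E : V ≃ₗ[F] V := LinearEquiv.ofInjectiveEndo X hX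
  let E' : V ≃ₗ[F] V := LinearEquiv.ofInjectiveEndo X' hX'
  have hE : ∀ v, E v = X v := fun v => rfl
  have hE' : ∀ v, E' v = X' v := fun v => rfl
  let g : V ≃ₗ[F] V := E'.symm.trans E
  have hg : ∀ v, g (X' v) = X v := by
    intro v
    change E (E'.symm (X' v)) = X v
    rw [← hE', LinearEquiv.symm_apply_apply, hE]
  have hgsurj : ∀ v, ∃ w, v = X' w := fun v => ⟨E'.symm v, by rw [← hE', LinearEquiv.apply_symm_apply]⟩
  have hiso : ∀ v w, f (g v) (g w) = f v w := by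
    intro v w
    obtain ⟨v, rfl⟩ := hgsurj v
    obtain ⟨w, rfl⟩ := hgsurj w
    have hadj' : ∀ v w, f (X' v) w = f v (X w) := by
      intro v w
      rw [C.swap, ← hadj, C.swap (X w) v, neg_neg]
    rw [hg, hg, hadj, ← hcomm, hadj']
  have hgB : ∀ b ∈ (B ⊓ B') ⊔ Subgroup.zpowers c, ∀ v, g (ρ b v) = ρ b (g v) := by
    let H : Subgroup A :=
      { carrier := {b | ∀ v, g (ρ b v) = ρ b (g v)}
        mul_mem' := by
          intro a b ha hb v
          rw [rho_mul, ha, hb, rho_mul]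
        one_mem' := by
          intro v
          rw [rho_one, rho_one]
        inv_mem' := by
          intro a ha v
          have h1 := ha (ρ a⁻¹ v)
          rw [← rho_mul, mul_inv_cancel, rho_one] at h1
          rw [h1, ← rho_mul, inv_mul_cancel, rho_one] }
    have hH : (B ⊓ B') ⊔ Subgroup.zpowers c ≤ H := by
      refine sup_le ?_ ?_
      · intro d hd v
        obtain ⟨v, rfl⟩ := hgsurj v
        have h1 : ρ d (X' v) = X' (ρ d v) := by
          change ρ d (ρ c⁻¹ v - (T v + T' v)) = ρ c⁻¹ (ρ d v) - (T (ρ d v) + T' (ρ d v))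
          rw [map_sub, map_add, hD d hd, hD' d hd, rho_comm ρ d]
        have h2 : ρ d (X v) = X (ρ d v) := by
          change ρ d (ρ c v + (T v + T' v)) = ρ c (ρ d v) + (T (ρ d v) + T' (ρ d v))
          rw [map_add, map_add, hD d hd, hD' d hd, rho_comm ρ d]
        rw [h1, hg, hg, h2]
      · rw [Subgroup.zpowers_le]
        intro v
        obtain ⟨v, rfl⟩ := hgsurj v
        have h1 : ρ c (X' v) = X' (ρ c v) := by
          change ρ c (ρ c⁻¹ v - (T v + T' v)) = ρ c⁻¹ (ρ c v) - (T (ρ c v) + T' (ρ c v))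
          rw [map_sub, map_add, M.comm, M.comm', rho_comm ρ c c⁻¹]
        have h2 : ρ c (X v) = X (ρ c v) := by
          change ρ c (ρ c v + (T v + T' v)) = ρ c (ρ c v) + (T (ρ c v) + T' (ρ c v))
          rw [map_add, map_add, M.comm, M.comm']
        rw [h1, hg, hg, h2]
    exact fun b hb => hH hb
  have hidx := third_index hB hB' hne (C.exp c) hcB
  -- the vector
  let y : V := ρ c⁻¹ z + T z
  have hTT : T' z = 0 := M.kerT' z hz
  have hx : X' y = ρ c⁻¹ (ρ c⁻¹ z) - T' (T z) := by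
    change ρ c⁻¹ (ρ c⁻¹ z + T z) - (T (ρ c⁻¹ z + T z) + T' (ρ c⁻¹ z + T z)) = _
    rw [map_add, map_add, map_add, ← M.commz, ← M.commz', hTT, map_zero, M.kerT _ (M.mapT z)]
    abel
  have hxU : X' y ∈ U ρ B := by
    rw [hx]
    exact Submodule.sub_mem _ (U_inv ρ B _ (U_inv ρ B _ hz)) (M.mapT' _)
  have hXy : X y = (z + T' (T z)) + (ρ c (T z) + ρ c⁻¹ (T z)) := by
    change ρ c (ρ c⁻¹ z + T z) + (T (ρ c⁻¹ z + T z) + T' (ρ c⁻¹ z + T z)) = _
    rw [map_add, map_add, map_add, ← M.commz, ← M.commz', hTT, map_zero, M.kerT _ (M.mapT z), ← rho_mul,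
      mul_inv_cancel, rho_one]
    abel
  rw [← hXy, ← hg]
  exact hΔ _ hidx g hiso hgB _ (hU _ hxU)

end MixOp

/-- the two averaged operators -/
def avg (ρ : A →* Module.End F V) (f : V →ₗ[F] V →ₗ[F] F) (p : ℕ) (c : A) (x x' : V) : Module.End F V where
  toFun v := ∑ i ∈ range p, f v (ρ (c ^ i) x) • ρ (c ^ i) x'
  map_add' v w := by
    rw [← Finset.sum_add_distrib]
    refine Finset.sum_congr rfl fun i _ => ?_
    rw [map_add, LinearMap.add_apply, add_smul]
  map_smul' r v := by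
    rw [RingHom.id_apply, Finset.smul_sum]
    refine Finset.sum_congr rfl fun i _ => ?_
    rw [map_smul, LinearMap.smul_apply, smul_eq_mul, mul_smul]

theorem avg_apply (c : A) (x x' v : V) :
    avg ρ f p c x x' v = ∑ i ∈ range p, f v (ρ (c ^ i) x) • ρ (c ^ i) x' := rfl

theorem avg_comm (C : Ctx ρ f p) (c : A) (x x' v : V) : ρ c (avg ρ f p c x x' v) = avg ρ f p c x x' (ρ c v) := by
  rw [avg_apply, avg_apply, map_sum]
  have h : ∀ i ∈ range p, ρ c (f v (ρ (c ^ i) x) • ρ (c ^ i) x') =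
      f (ρ c v) (ρ (c ^ (i + 1)) x) • ρ (c ^ (i + 1)) x' := by
    intro i _
    rw [map_smul, pow_succ', rho_mul, rho_mul, C.inv]
  rw [Finset.sum_congr rfl h]
  exact sum_shift (fun i => f (ρ c v) (ρ (c ^ i) x) • ρ (c ^ i) x') (by
    simp only [C.exp c, pow_zero])

theorem avg_D (C : Ctx ρ f p) {B B' : Subgroup A} (c : A) {x x' : V} (hx : x ∈ U ρ B) (hx' : x' ∈ U ρ B') {d : A}
    (hd : d ∈ B ⊓ B') (v : V) : avg ρ f p c x x' (ρ d v) = ρ d (avg ρ f p c x x' v) := by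
  rw [avg_apply, avg_apply, map_sum]
  refine Finset.sum_congr rfl fun i _ => ?_
  have h1 : ρ d (ρ (c ^ i) x) = ρ (c ^ i) x := (U_inv ρ B _ hx) d hd.1
  have h2 : ρ d (ρ (c ^ i) x') = ρ (c ^ i) x' := (U_inv ρ B' _ hx') d hd.2
  rw [map_smul, h2]
  conv_lhs => rw [← h1, C.inv]

theorem mixOp_avg (C : Ctx ρ f p) {B B' : Subgroup A} (hB : B.index = p) (hB' : B'.index = p) (hne : B ≠ B')
    (c : A) {x x' : V} (hx : x ∈ U ρ B) (hx' : x' ∈ U ρ B') :
    MixOp ρ f B B' c (avg ρ f p c x x') (avg ρ f p c x' x) where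
  mapT v := by
    rw [avg_apply]
    exact Submodule.sum_mem _ fun i _ => Submodule.smul_mem _ _ (U_inv ρ B' _ hx')
  mapT' v := by
    rw [avg_apply]
    exact Submodule.sum_mem _ fun i _ => Submodule.smul_mem _ _ (U_inv ρ B _ hx)
  kerT v hv := by
    rw [avg_apply]
    refine Finset.sum_eq_zero fun i _ => ?_
    rw [C.orth hB' hB hne.symm hv (U_inv ρ B _ hx), zero_smul]
  kerT' v hv := by
    rw [avg_apply]
    refine Finset.sum_eq_zero fun i _ => ?_
    rw [C.orth hB hB' hne hv (U_inv ρ B' _ hx'), zero_smul]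
  adj v w := by
    rw [avg_apply, avg_apply, map_sum, LinearMap.sum_apply, map_sum, ← Finset.sum_neg_distrib]
    refine Finset.sum_congr rfl fun i _ => ?_
    rw [map_smul, LinearMap.smul_apply, map_smul, smul_eq_mul, smul_eq_mul, C.swap (ρ (c ^ i) x') w]
    ring
  adj' v w := by
    rw [avg_apply, avg_apply, map_sum, LinearMap.sum_apply, map_sum, ← Finset.sum_neg_distrib]
    refine Finset.sum_congr rfl fun i _ => ?_
    rw [map_smul, LinearMap.smul_apply, map_smul, smul_eq_mul, smul_eq_mul, C.swap (ρ (c ^ i) x) w]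
    ring
  comm v := avg_comm C c x x' v
  comm' v := avg_comm C c x' x v

/-- `U B` is nondegenerate, and more generally the sums of some of them -/
theorem nd_sum (C : Ctx ρ f p) (s : Set (Subgroup A)) (hs : ∀ B ∈ s, B.index = p) {y : V}
    (hy : y ∈ ⨆ B ∈ s, U ρ B) (hy0 : y ≠ 0) : ∃ x ∈ ⨆ B ∈ s, U ρ B, f x y ≠ 0 := by
  by_contra hcon
  push Not at hcon
  apply hy0
  apply C.nd
  intro v
  have h1 : Y ρ p ≤ LinearMap.ker (f.flip y) := by
    refine iSup_le ?_
    rintro ⟨B, hB⟩ v hv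
    rw [LinearMap.mem_ker, LinearMap.flip_apply]
    by_cases hBs : B ∈ s
    · exact hcon v ((le_iSup₂_of_le (f := fun B (_ : B ∈ s) => U ρ B) B hBs le_rfl) hv)
    · have h2 : (⨆ B ∈ s, U ρ B) ≤ LinearMap.ker (f v) := by
        refine iSup₂_le fun B' hB' => ?_
        intro w hw
        rw [LinearMap.mem_ker]
        exact C.orth hB (hs B' hB') (fun h => hBs (by rw [show B = B' from h]; exact hB')) hv hw
      have h3 := h2 hy
      rwa [LinearMap.mem_ker] at h3
  rw [Y_top ρ C.exp C.pF fun v hv => C.fix_zero hv] at h1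
  have h2 := h1 (Submodule.mem_top (x := v))
  rwa [LinearMap.mem_ker, LinearMap.flip_apply] at h2

theorem both (W : Submodule F V) (hW : ∀ y ∈ W, y ≠ 0 → ∃ x ∈ W, f x y ≠ 0) {y z : V} (hy : y ∈ W) (hz : z ∈ W)
    (hy0 : y ≠ 0) (hz0 : z ≠ 0) : ∃ x ∈ W, f x y ≠ 0 ∧ f x z ≠ 0 := by
  obtain ⟨a, haW, ha⟩ := hW y hy hy0
  obtain ⟨b, hbW, hb⟩ := hW z hz hz0
  by_cases ha' : f a z = 0
  · by_cases hb' : f b y = 0
    · refine ⟨a + b, W.add_mem haW hbW, ?_, ?_⟩
      · rwa [map_add, LinearMap.add_apply, hb', add_zero]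
      · rwa [map_add, LinearMap.add_apply, ha', zero_add]
    · exact ⟨b, hbW, hb', hb⟩
  · exact ⟨a, haW, ha, ha'⟩

end Cfsg.Agent.H972.Seitz.Rep
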