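import Cfsg.Agent.H972.Seitz.MixB

/-!
# Vectors with two components, and the closure theorem
-/

set_option autoImplicit false
set_option linter.unusedSectionVars false
set_option linter.unusedTactic false

namespace Cfsg.Agent.H972.Seitz.Rep

open Finset

variable {F V A : Type*} [Field F] [AddCommGroup V] [Module F V] [CommGroup A] [Finite A]
  [FiniteDimensional F V]

variable {ρ : A →* Module.End F V} {f : V →ₗ[F] V →ₗ[F] F} {p : ℕ} [hp : Fact p.Prime]

theorem exists_notMem {B B' : Subgroup A} (hB : B.index = p) (hB' : B'.index = p) (hne : B ≠ B') :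
    ∃ b, b ∈ B' ∧ b ∉ B := by
  by_contra h
  push Not at h
  have h1 := Subgroup.relIndex_mul_index (show B' ≤ B from h)
  rw [hB, hB'] at h1
  have h2 : B'.relIndex B = 1 := Nat.eq_of_mul_eq_mul_right hp.1.pos (by rw [h1, one_mul])
  rw [Subgroup.relIndex_eq_one] at h2
  exact hne (le_antisymm h2 h)

theorem Ctx.pow_notMem (C : Ctx ρ f p) {B : Subgroup A} {b : A} (hb : b ∉ B) {i : ℕ} (h0 : 0 < i) (hi : i < p) :
    b ^ i ∉ B := by
  refine Rep.pow_notMem (C.exp b) hb ?_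
  refine ((Nat.Prime.coprime_iff_not_dvd hp.1).2 fun h => ?_).symm
  have := Nat.le_of_dvd h0 h
  omega

theorem Ctx.nd_U (C : Ctx ρ f p) {B : Subgroup A} (hB : B.index = p) {y : V} (hy : y ∈ U ρ B) (hy0 : y ≠ 0) :
    ∃ x ∈ U ρ B, f x y ≠ 0 := by
  have h := nd_sum C {B} (by rintro _ rfl; exact hB) (y := y) (by
    rw [_root_.iSup_singleton]; exact hy) hy0
  rwa [_root_.iSup_singleton] at h

theorem Ctx.two_notMem (C : Ctx ρ f p) {B : Subgroup A} {b : A} (hb : b ∉ B) : b ^ 2 ∉ B :=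
  Rep.pow_notMem (C.exp b) hb ((Nat.coprime_primes Nat.prime_two hp.1).2 (Ne.symm C.p2))

theorem Ctx.four_notMem (C : Ctx ρ f p) {B : Subgroup A} {b : A} (hb : b ∉ B) : b ^ 4 ∉ B := by
  have h := C.two_notMem (C.two_notMem hb)
  rwa [← pow_mul] at h

/-- `-1` is not an eigenvalue -/
theorem Ctx.no_neg (C : Ctx ρ f p) {B : Subgroup A} (hB : B.index = p) {b : A} (hb : b ∉ B) {t : V}
    (ht : t ∈ U ρ B) (h : ρ b t = - t) : t = 0 := by
  refine C.fpf hB (C.two_notMem hb) ht ?_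
  rw [pow_two, rho_mul, h, map_neg, h, neg_neg]

theorem exists_mixOp (C : Ctx ρ f p) {B B' : Subgroup A} (hB : B.index = p) (hB' : B'.index = p) (hne : B ≠ B')
    (hU : U ρ B ≠ ⊥) (hU' : U ρ B' ≠ ⊥) : ∃ c, c ∉ B ∧ c ∉ B' ∧ ∃ T T' : Module.End F V,
      MixOp ρ f B B' c T T' ∧ (∀ d ∈ B ⊓ B', ∀ v, T (ρ d v) = ρ d (T v)) ∧
      (∀ d ∈ B ⊓ B', ∀ v, T' (ρ d v) = ρ d (T' v)) ∧ ∃ z ∈ U ρ B, T z ≠ 0 := by
  obtain ⟨a, haB', haB⟩ := exists_notMem hB hB' hne
  obtain ⟨a', ha'B, ha'B'⟩ := exists_notMem hB' hB hne.symm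
  obtain ⟨x, hx, hx0⟩ := (Submodule.ne_bot_iff _).1 hU
  obtain ⟨x', hx', hx'0⟩ := (Submodule.ne_bot_iff _).1 hU'
  obtain ⟨v, hv, hv0⟩ := C.nd_U hB hx hx0
  have h1 : ∀ k i : ℕ, ρ ((a * a' ^ k) ^ i) x = ρ (a ^ i) x := by
    intro k i
    rw [mul_pow, rho_mul, hx _ (B.pow_mem (B.pow_mem ha'B k) i)]
  have h2 : ∀ k i : ℕ, ρ ((a * a' ^ k) ^ i) x' = ρ ((a' ^ i) ^ k) x' := by
    intro k i
    rw [mul_comm, mul_pow, rho_mul, hx' _ (B'.pow_mem haB' i), ← pow_mul, ← pow_mul, mul_comm i k]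
  have h3 : ∑ k ∈ range p, avg ρ f p (a * a' ^ k) x x' v = (f v x * (p : F)) • x' := by
    have h4 : ∀ k ∈ range p, avg ρ f p (a * a' ^ k) x x' v =
        ∑ i ∈ range p, f v (ρ (a ^ i) x) • ρ ((a' ^ i) ^ k) x' := by
      intro k _
      rw [avg_apply]
      exact Finset.sum_congr rfl fun i _ => by rw [h1, h2]
    rw [Finset.sum_congr rfl h4, Finset.sum_comm]
    have h5 : ∀ i ∈ range p, ∑ k ∈ range p, f v (ρ (a ^ i) x) • ρ ((a' ^ i) ^ k) x' =
        f v (ρ (a ^ i) x) • N ρ p (a' ^ i) x' := by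
      intro i _
      rw [N, Finset.smul_sum]
    rw [Finset.sum_congr rfl h5, Finset.sum_eq_single 0]
    · rw [pow_zero, pow_zero, rho_one, N]
      simp only [one_pow, rho_one, Finset.sum_const, Finset.card_range]
      rw [← Nat.cast_smul_eq_nsmul F, smul_smul]
    · intro i hi hi0
      rw [Finset.mem_range] at hi
      rw [C.N_zero hB' (C.pow_notMem ha'B' (Nat.pos_of_ne_zero hi0) hi) hx', smul_zero]
    · intro h
      exact absurd (Finset.mem_range.2 hp.1.pos) h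
  have h6 : ∑ k ∈ range p, avg ρ f p (a * a' ^ k) x x' v ≠ 0 := by
    rw [h3]
    exact smul_ne_zero (mul_ne_zero hv0 C.pF) hx'0
  obtain ⟨k, hk, hk0⟩ := Finset.exists_ne_zero_of_sum_ne_zero h6
  rw [Finset.mem_range] at hk
  have hkpos : 0 < k := by
    rcases Nat.eq_zero_or_pos k with h0 | h0
    · exfalso
      apply hk0
      rw [h0, pow_zero, mul_one, avg_apply]
      have h7 : ∀ i ∈ range p, f v (ρ (a ^ i) x) • ρ (a ^ i) x' = f v (ρ (a ^ i) x) • x' := by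
        intro i _
        rw [hx' _ (B'.pow_mem haB' i)]
      rw [Finset.sum_congr rfl h7, ← Finset.sum_smul, ← map_sum]
      have h8 := C.N_zero hB haB hx
      rw [N] at h8
      rw [h8, map_zero, zero_smul]
    · exact h0
  refine ⟨a * a' ^ k, ?_, ?_, avg ρ f p (a * a' ^ k) x x', avg ρ f p (a * a' ^ k) x' x,
    mixOp_avg C hB hB' hne _ hx hx', ?_, ?_, v, hv, hk0⟩
  · intro h
    exact haB ((Subgroup.mul_mem_cancel_right B (B.pow_mem ha'B k)).1 h)
  · intro h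
    exact C.pow_notMem ha'B' hkpos hk ((Subgroup.mul_mem_cancel_left B' haB').1 h)
  · intro d hd v
    exact avg_D C _ hx hx' hd v
  · intro d hd v
    exact avg_D C _ hx' hx (by rwa [inf_comm] at hd) v

theorem exists_mixOp2 (C : Ctx ρ f p) {B B' : Subgroup A} (hB : B.index = p) (hB' : B'.index = p) (hne : B ≠ B')
    (hU : U ρ B ≠ ⊥) (hU' : U ρ B' ≠ ⊥) : ∃ c, c ∉ B ∧ c ∉ B' ∧ ∃ T T' : Module.End F V,
      MixOp ρ f B B' c T T' ∧ (∀ d ∈ B ⊓ B', ∀ v, T (ρ d v) = ρ d (T v)) ∧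
      (∀ d ∈ B ⊓ B', ∀ v, T' (ρ d v) = ρ d (T' v)) ∧ ∃ z ∈ U ρ B, T z ≠ 0 ∧ z + T' (T z) ≠ 0 := by
  obtain ⟨c, hcB, hcB', T, T', M, hD, hD', z₀, hz₀, hT₀⟩ := exists_mixOp C hB hB' hne hU hU'
  refine ⟨c, hcB, hcB', ?_⟩
  by_cases hex : ∃ z ∈ U ρ B, T z ≠ 0 ∧ z + T' (T z) ≠ 0
  · exact ⟨T, T', M, hD, hD', hex⟩
  push Not at hex
  have hinj : ∀ z ∈ U ρ B, T z = 0 → z = 0 := by
    intro z hz hTz
    have h1 := hex (z₀ + z) (Submodule.add_mem _ hz₀ hz) (by rw [map_add, hTz, add_zero]; exact hT₀)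
    have h2 := hex z₀ hz₀ hT₀
    rw [map_add, hTz, add_zero, add_right_comm, h2, zero_add] at h1
    exact h1
  have hTT : ∀ z ∈ U ρ B, T' (T z) = - z := by
    intro z hz
    by_cases h : T z = 0
    · rw [hinj z hz h, map_zero, map_zero, neg_zero]
    · exact eq_neg_of_add_eq_zero_right (hex z hz h)
  have hz0 : z₀ ≠ 0 := fun h => hT₀ (by rw [h, map_zero])
  by_cases h3 : p = 3
  · -- double
    have h2 := C.p3 h3
    refine ⟨(2 : F) • T, (2 : F) • T', ?_, ?_, ?_, z₀, hz₀, ?_, ?_⟩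
    · exact
        { mapT := fun v => Submodule.smul_mem _ _ (M.mapT v)
          mapT' := fun v => Submodule.smul_mem _ _ (M.mapT' v)
          kerT := fun v hv => by rw [LinearMap.smul_apply, M.kerT v hv, smul_zero]
          kerT' := fun v hv => by rw [LinearMap.smul_apply, M.kerT' v hv, smul_zero]
          adj := fun v w => by
            rw [LinearMap.smul_apply, LinearMap.smul_apply, map_smul, map_smul, LinearMap.smul_apply, M.adj, smul_neg]
          adj' := fun v w => by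
            rw [LinearMap.smul_apply, LinearMap.smul_apply, map_smul, map_smul, LinearMap.smul_apply, M.adj', smul_neg]
          comm := fun v => by rw [LinearMap.smul_apply, LinearMap.smul_apply, map_smul, M.comm]
          comm' := fun v => by rw [LinearMap.smul_apply, LinearMap.smul_apply, map_smul, M.comm'] }
    · intro d hd v
      rw [LinearMap.smul_apply, LinearMap.smul_apply, map_smul, hD d hd]
    · intro d hd v
      rw [LinearMap.smul_apply, LinearMap.smul_apply, map_smul, hD' d hd]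
    · rw [LinearMap.smul_apply]
      exact smul_ne_zero h2 hT₀
    · rw [LinearMap.smul_apply, LinearMap.smul_apply, map_smul, hTT z₀ hz₀]
      have h4 : z₀ + (2 : F) • (2 : F) • (-z₀) = (-(p : F)) • z₀ := by
        rw [h3]
        module
      rw [h4]
      exact smul_ne_zero (neg_ne_zero.2 C.pF) hz0
  · -- multiply by `1 + c⁻¹`
    have hc2 : c⁻¹ ∉ B := fun h => hcB ((Subgroup.inv_mem_iff B).1 h)
    refine ⟨T * (1 + ρ c⁻¹), (1 + ρ c) * T', ?_, ?_, ?_, z₀, hz₀, ?_, ?_⟩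
    · exact
        { mapT := fun v => M.mapT _
          mapT' := fun v => Submodule.add_mem _ (M.mapT' v) (U_inv ρ B c (M.mapT' v))
          kerT := fun v hv => M.kerT _ (Submodule.add_mem _ hv (U_inv ρ B' _ hv))
          kerT' := fun v hv => by
            change T' v + ρ c (T' v) = 0
            rw [M.kerT' v hv, map_zero, add_zero]
          adj := fun v w => by
            change f (T (v + ρ c⁻¹ v)) w = - f v (T' w + ρ c (T' w))
            rw [M.adj, map_add, map_add, LinearMap.add_apply, C.inv' c⁻¹, inv_inv]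
          adj' := fun v w => by
            change f (T' v + ρ c (T' v)) w = - f v (T (w + ρ c⁻¹ w))
            rw [map_add, LinearMap.add_apply, C.inv' c, M.adj', M.adj', map_add, map_add]
            ring
          comm := fun v => by
            change ρ c (T (v + ρ c⁻¹ v)) = T (ρ c v + ρ c⁻¹ (ρ c v))
            rw [M.comm, map_add, rho_comm ρ c c⁻¹]
          comm' := fun v => by
            change ρ c (T' v + ρ c (T' v)) = T' (ρ c v) + ρ c (T' (ρ c v))
            rw [map_add, M.comm'] }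
    · intro d hd v
      change T (ρ d v + ρ c⁻¹ (ρ d v)) = ρ d (T (v + ρ c⁻¹ v))
      rw [← hD d hd, map_add (ρ d), rho_comm ρ c⁻¹ d]
    · intro d hd v
      change T' (ρ d v) + ρ c (T' (ρ d v)) = ρ d (T' v + ρ c (T' v))
      rw [hD' d hd, map_add, rho_comm ρ c d]
    · change T (z₀ + ρ c⁻¹ z₀) ≠ 0
      intro h
      have h4 := hinj _ (Submodule.add_mem _ hz₀ (U_inv ρ B _ hz₀)) h
      exact hz0 (C.no_neg hB hc2 hz₀ (eq_neg_of_add_eq_zero_right h4))
    · change z₀ + (T' (T (z₀ + ρ c⁻¹ z₀)) + ρ c (T' (T (z₀ + ρ c⁻¹ z₀)))) ≠ 0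
      rw [hTT _ (Submodule.add_mem _ hz₀ (U_inv ρ B _ hz₀)), map_neg, map_add, ← rho_mul, mul_inv_cancel, rho_one]
      intro h
      have h4 : z₀ + ρ c z₀ + ρ c⁻¹ z₀ = 0 := by
        have h5 : z₀ + ρ c z₀ + ρ c⁻¹ z₀ = -(z₀ + (-(z₀ + ρ c⁻¹ z₀) + -(ρ c z₀ + z₀))) := by abel
        rw [h5, h, neg_zero]
      have h6 : ρ c (z₀ + ρ c z₀ + ρ c⁻¹ z₀) = ρ c z₀ + ρ (c ^ 2) z₀ + z₀ := by
        rw [map_add, map_add, ← rho_mul ρ c c⁻¹, mul_inv_cancel, rho_one, pow_two, rho_mul]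
      rw [h4, map_zero] at h6
      have h7 : ρ (c ^ 3) z₀ = z₀ := by
        have h8 : ρ c (ρ c z₀ + ρ (c ^ 2) z₀ + z₀) = ρ (c ^ 2) z₀ + ρ (c ^ 3) z₀ + ρ c z₀ := by
          rw [map_add, map_add, ← rho_mul, ← rho_mul, ← pow_two, ← pow_succ']
        rw [← h6, map_zero] at h8
        have h9 : ρ (c ^ 3) z₀ - z₀ = (ρ (c ^ 2) z₀ + ρ (c ^ 3) z₀ + ρ c z₀) - (ρ c z₀ + ρ (c ^ 2) z₀ + z₀) := by abel
        rw [← h8, ← h6, sub_zero] at h9
        exact sub_eq_zero.1 h9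
      exact hz0 (C.fpf hB (Rep.pow_notMem (C.exp c) hcB ((Nat.coprime_primes Nat.prime_three hp.1).2 (Ne.symm h3)))
        hz₀ h7)

/-- vectors of `Δ` with two components -/
theorem mix (C : Ctx ρ f p) {B B' : Subgroup A} (hB : B.index = p) (hB' : B'.index = p) (hne : B ≠ B')
    (hU : U ρ B ≠ ⊥) (hU' : U ρ B' ≠ ⊥) {Δ : Set V} (hΔ : Good ρ f p Δ) (hΔU : ∀ v ∈ U ρ B, v ∈ Δ) :
    ∃ x ∈ U ρ B, ∃ x' ∈ U ρ B', x ≠ 0 ∧ x' ≠ 0 ∧ x + x' ∈ Δ := by
  obtain ⟨c, hcB, hcB', T, T', M, hD, hD', z, hz, hTz, hz2⟩ := exists_mixOp2 C hB hB' hne hU hU'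
  refine ⟨_, Submodule.add_mem _ hz (M.mapT' _), _,
    Submodule.add_mem _ (U_inv ρ B' c (M.mapT z)) (U_inv ρ B' c⁻¹ (M.mapT z)), hz2, ?_,
    M.exists_iso C hB hB' hne hcB hcB' hD hD' hΔ hΔU hz⟩
  intro h
  apply hTz
  refine C.no_neg hB' (C.two_notMem hcB') (M.mapT z) ?_
  have h1 : ρ c (ρ c (T z) + ρ c⁻¹ (T z)) = ρ (c ^ 2) (T z) + T z := by
    rw [map_add, ← rho_mul, ← rho_mul, mul_inv_cancel, rho_one, pow_two]
  rw [h, map_zero] at h1
  exact eq_neg_of_add_eq_zero_left h1.symm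

/-- changing one component -/
theorem change {Δ : Set V} (hadd : ∀ u ∈ Δ, ∀ v ∈ Δ, f v u ≠ 0 → v + u ∈ Δ) (C : Ctx ρ f p) (W : Submodule F V)
    (hWΔ : ∀ w ∈ W, w ∈ Δ) (hWnd : ∀ y ∈ W, y ≠ 0 → ∃ x ∈ W, f x y ≠ 0) {x x' : V} (hx : x ∈ W) (hx0 : x ≠ 0)
    (hx' : ∀ w ∈ W, f x' w = 0) (h : x + x' ∈ Δ) {y : V} (hy : y ∈ W) (hy0 : y ≠ 0) : y + x' ∈ Δ := by
  obtain ⟨z, hzW, hz1, hz2⟩ := both W hWnd hx hy hx0 hy0
  have h1 : z + x' ∈ Δ := by
    have h2 : z + x' = (x + x') + (z - x) := by abel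
    rw [h2]
    refine hadd _ (hWΔ _ (W.sub_mem hzW hx)) _ h ?_
    rw [map_add, LinearMap.add_apply, hx' _ (W.sub_mem hzW hx), add_zero, map_sub, C.alt, sub_zero, C.swap]
    exact neg_ne_zero.2 hz1
  have h2 : y + x' = (z + x') + (y - z) := by abel
  rw [h2]
  refine hadd _ (hWΔ _ (W.sub_mem hy hzW)) _ h1 ?_
  rw [map_add, LinearMap.add_apply, hx' _ (W.sub_mem hy hzW), add_zero, map_sub, C.alt, sub_zero]
  exact hz2

/-- **the closure theorem** -/
theorem delta_top (C : Ctx ρ f p) {Δ : Set V} (hΔ : Good ρ f p Δ)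
    (hΔU : ∀ B : Subgroup A, B.index = p → ∀ v ∈ U ρ B, v ∈ Δ) (h0 : (0 : V) ∈ Δ)
    (hadd : ∀ u ∈ Δ, ∀ v ∈ Δ, f v u ≠ 0 → v + u ∈ Δ) (v : V) : v ∈ Δ := by
  classical
  have : Fintype (Subgroup A) := Fintype.ofFinite _
  have key : ∀ s : Finset (Subgroup A), (∀ B ∈ s, B.index = p) → ∀ v ∈ ⨆ B ∈ (s : Set (Subgroup A)), U ρ B, v ∈ Δ := by
    intro s
    induction s using Finset.induction_on with
    | empty =>
      intro _ v hv
      simp only [Finset.coe_empty, Set.mem_empty_iff_false, not_false_eq_true, iSup_neg, iSup_bot,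
        Submodule.mem_bot] at hv
      rw [hv]; exact h0
    | insert B' s hBs ih =>
      intro hs v hv
      have hs' : ∀ B ∈ s, B.index = p := fun B hB => hs B (Finset.mem_insert_of_mem hB)
      have hB' : B'.index = p := hs B' (Finset.mem_insert_self _ _)
      rw [Finset.coe_insert, _root_.iSup_insert, sup_comm, Submodule.mem_sup] at hv
      obtain ⟨y, hy, u, hu, rfl⟩ := hv
      by_cases hy0 : y = 0
      · rw [hy0, zero_add]; exact hΔU B' hB' u hu
      by_cases hu0 : u = 0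
      · rw [hu0, add_zero]; exact ih hs' y hy
      have horth : ∀ u ∈ U ρ B', ∀ y ∈ ⨆ B ∈ (s : Set (Subgroup A)), U ρ B, f u y = 0 := by
        intro u hu y hy
        have h2 : (⨆ B ∈ (s : Set (Subgroup A)), U ρ B) ≤ LinearMap.ker (f u) := by
          refine iSup₂_le fun B hB => ?_
          intro w hw
          rw [LinearMap.mem_ker]
          exact C.orth hB' (hs' B hB) (fun h => hBs (by rw [h]; exact hB)) hu hw
        exact LinearMap.mem_ker.1 (h2 hy)
      obtain ⟨B, hB, hUB⟩ : ∃ B ∈ s, U ρ B ≠ ⊥ := by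
        by_contra hcon
        push Not at hcon
        apply hy0
        have h2 : (⨆ B ∈ (s : Set (Subgroup A)), U ρ B) ≤ ⊥ := iSup₂_le fun B hB => (hcon B hB).le
        exact (Submodule.mem_bot F).1 (h2 hy)
      have hUB' : U ρ B' ≠ ⊥ := fun h => hu0 (by rw [h] at hu; exact (Submodule.mem_bot F).1 hu)
      obtain ⟨x, hx, x', hx', hx0, hx'0, hxx⟩ := mix C (hs' B hB) hB' (fun h => hBs (by rw [← h]; exact hB)) hUB hUB'
        hΔ (hΔU B (hs' B hB))
      have h1 : y + x' ∈ Δ := by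
        refine change hadd C (⨆ B ∈ (s : Set (Subgroup A)), U ρ B) (ih hs') ?_
          ((le_iSup₂_of_le (f := fun B (_ : B ∈ (s : Set (Subgroup A))) => U ρ B) B hB le_rfl) hx) hx0
          (horth x' hx') hxx hy hy0
        intro y hy hy0
        exact nd_sum C _ (fun B hB => hs' B hB) hy hy0
      rw [add_comm] at h1 ⊢
      refine change hadd C (U ρ B') (hΔU B' hB') (fun y hy hy0 => C.nd_U hB' hy hy0) hx' hx'0 ?_ h1 hu hu0
      intro w hw
      rw [C.swap, horth w hw y hy, neg_zero]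
  have h1 : Y ρ p ≤ ⨆ B ∈ ((Finset.univ.filter fun B : Subgroup A => B.index = p : Finset (Subgroup A)) :
      Set (Subgroup A)), U ρ B := by
    refine iSup_le ?_
    rintro ⟨B, hB⟩
    exact le_iSup₂_of_le (f := fun B (_ : B ∈ ((Finset.univ.filter fun B : Subgroup A => B.index = p :
      Finset (Subgroup A)) : Set (Subgroup A))) => U ρ B) B (by simpa using hB) le_rfl
  rw [Y_top ρ C.exp C.pF fun v hv => C.fix_zero hv] at h1
  exact key _ (fun B hB => (Finset.mem_filter.1 hB).2) v (h1 Submodule.mem_top)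

end Cfsg.Agent.H972.Seitz.Rep
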