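import Mathlib

/-!
# Elementary abelian groups acting on a symplectic space: the generation argument (abstract part)
-/

set_option autoImplicit false

namespace Cfsg.Agent.H972.Seitz.Rep

open Finset

variable {F V A : Type*} [Field F] [AddCommGroup V] [Module F V] [CommGroup A]

section basic

variable (ρ : A →* Module.End F V)

theorem rho_mul (a b : A) (v : V) : ρ (a * b) v = ρ a (ρ b v) := by
  rw [map_mul]; rfl

theorem rho_one (v : V) : ρ 1 v = v := by
  rw [map_one]; rfl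

theorem rho_comm (a b : A) (v : V) : ρ a (ρ b v) = ρ b (ρ a v) := by
  rw [← rho_mul, ← rho_mul, mul_comm]

/-- the stabiliser of a vector -/
def St (v : V) : Subgroup A where
  carrier := {a | ρ a v = v}
  mul_mem' := by
    intro a b ha hb
    change ρ (a * b) v = v
    rw [rho_mul, show ρ b v = v from hb, show ρ a v = v from ha]
  one_mem' := rho_one ρ v
  inv_mem' := by
    intro a ha
    change ρ a⁻¹ v = v
    have h : ρ a v = v := ha
    conv_lhs => rw [← h, ← rho_mul, inv_mul_cancel, rho_one]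

theorem mem_St {v : V} {a : A} : a ∈ St ρ v ↔ ρ a v = v := Iff.rfl

/-- the fixed points of a subgroup -/
def U (B : Subgroup A) : Submodule F V where
  carrier := {v | ∀ b ∈ B, ρ b v = v}
  add_mem' := by
    intro v w hv hw b hb
    rw [map_add, hv b hb, hw b hb]
  zero_mem' := fun b _ => map_zero _
  smul_mem' := by
    intro c v hv b hb
    rw [map_smul, hv b hb]

theorem mem_U {B : Subgroup A} {v : V} : v ∈ U ρ B ↔ ∀ b ∈ B, ρ b v = v := Iff.rfl

theorem mem_U_iff {B : Subgroup A} {v : V} : v ∈ U ρ B ↔ B ≤ St ρ v := Iff.rfl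

theorem U_inv (B : Subgroup A) (a : A) {v : V} (hv : v ∈ U ρ B) : ρ a v ∈ U ρ B := by
  intro b hb
  rw [rho_comm, hv b hb]

/-- the norm -/
def N (p : ℕ) (b : A) (v : V) : V := ∑ k ∈ range p, ρ (b ^ k) v

theorem sum_shift {M : Type*} [AddCommGroup M] {p : ℕ} (h : ℕ → M) (hp : h p = h 0) :
    ∑ i ∈ range p, h (i + 1) = ∑ i ∈ range p, h i := by
  have h1 := Finset.sum_range_succ h p
  have h2 := Finset.sum_range_succ' h p
  rw [h2, hp] at h1
  exact add_right_cancel h1

theorem N_fixed {p : ℕ} {b : A} (hb : b ^ p = 1) (v : V) : ρ b (N ρ p b v) = N ρ p b v := by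
  rw [N, map_sum]
  have h : ∀ k ∈ range p, ρ b (ρ (b ^ k) v) = ρ (b ^ (k + 1)) v := by
    intro k _
    rw [← rho_mul, ← pow_succ']
  rw [Finset.sum_congr rfl h]
  exact sum_shift (fun k => ρ (b ^ k) v) (by
    change ρ (b ^ p) v = ρ (b ^ 0) v
    rw [hb, pow_zero])

theorem N_mem {p : ℕ} {b : A} (hb : b ^ p = 1) {D : Subgroup A} {v : V} (hv : v ∈ U ρ D) :
    N ρ p b v ∈ U ρ (D ⊔ Subgroup.zpowers b) := by
  rw [mem_U_iff]
  refine sup_le ?_ ?_
  · intro d hd
    rw [mem_St, N, map_sum]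
    refine Finset.sum_congr rfl fun k _ => ?_
    rw [rho_comm, hv d hd]
  · rw [Subgroup.zpowers_le]
    exact N_fixed ρ hb v

end basic

section index

variable [Finite A]

theorem index_of_sup_eq_top {p : ℕ} [hp : Fact p.Prime] {D : Subgroup A} {b : A} (hbp : b ^ p = 1) (hb : b ∉ D)
    (h : D ⊔ Subgroup.zpowers b = ⊤) : D.index = p := by
  have h1 : Subgroup.zpowers (QuotientGroup.mk' D b) = ⊤ := by
    rw [← MonoidHom.map_zpowers, eq_top_iff, ← Subgroup.map_top_of_surjective (QuotientGroup.mk' D)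
      (QuotientGroup.mk'_surjective D), ← h, Subgroup.map_sup]
    refine sup_le ?_ le_rfl
    rw [Subgroup.map_le_iff_le_comap]
    intro d hd
    rw [Subgroup.mem_comap]
    have : QuotientGroup.mk' D d = 1 := (QuotientGroup.eq_one_iff d).2 hd
    rw [this]
    exact Subgroup.one_mem _
  have h2 : orderOf (QuotientGroup.mk' D b) = p := by
    refine orderOf_eq_prime ?_ ?_
    · rw [← map_pow, hbp, map_one]
    · intro h3
      exact hb ((QuotientGroup.eq_one_iff b).1 h3)
  rw [Subgroup.index, ← Subgroup.card_top, ← h1, Nat.card_zpowers, h2]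

theorem sup_eq_top {p : ℕ} [hp : Fact p.Prime] {B : Subgroup A} (hB : B.index = p) {b : A} (hb : b ∉ B) :
    B ⊔ Subgroup.zpowers b = ⊤ := by
  have h1 : B ≤ B ⊔ Subgroup.zpowers b := le_sup_left
  have h2 := Subgroup.relIndex_mul_index h1
  rw [hB] at h2
  have h3 : (B ⊔ Subgroup.zpowers b).index ∣ p := ⟨_, by rw [← h2, mul_comm]⟩
  rcases (Nat.dvd_prime hp.1).1 h3 with h4 | h4
  · exact Subgroup.index_eq_one.1 h4
  · exfalso
    rw [h4] at h2
    have h5 : B.relIndex (B ⊔ Subgroup.zpowers b) = 1 := by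
      have := hp.1.pos
      exact Nat.eq_of_mul_eq_mul_right this (by rw [h2, one_mul])
    rw [Subgroup.relIndex_eq_one] at h5
    exact hb (h5 (Subgroup.mem_sup_right (Subgroup.mem_zpowers b)))

theorem pow_notMem {p : ℕ} [hp : Fact p.Prime] {B : Subgroup A} {b : A} (hbp : b ^ p = 1) (hb : b ∉ B) {i : ℕ}
    (hi : Nat.Coprime i p) : b ^ i ∉ B := by
  intro h
  apply hb
  obtain ⟨u, hu⟩ := Nat.exists_mul_mod_eq_one_of_coprime hi hp.1.one_lt
  have h1 : b ^ (i * u) = b := by
    conv_lhs => rw [← Nat.div_add_mod (i * u) p, hu.2, pow_add, pow_mul, hbp, one_pow, one_mul, pow_one]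
  rw [← h1, pow_mul]
  exact B.pow_mem h u

theorem inf_index {p : ℕ} [hp : Fact p.Prime] {B B' : Subgroup A} (hB : B.index = p) (hB' : B'.index = p)
    (hne : B ≠ B') : (B ⊓ B').index = p * p := by
  have h0 : ¬ B' ≤ B := by
    intro h
    have h1 := Subgroup.relIndex_mul_index h
    rw [hB, hB'] at h1
    have h2 : B'.relIndex B = 1 := Nat.eq_of_mul_eq_mul_right hp.1.pos (by rw [h1, one_mul])
    rw [Subgroup.relIndex_eq_one] at h2
    exact hne (le_antisymm h2 h)
  obtain ⟨b, hb', hb⟩ := Set.not_subset.1 h0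
  have h1 : B ⊔ B' = ⊤ := by
    rw [eq_top_iff, ← sup_eq_top hB hb]
    exact sup_le_sup_left (by rwa [Subgroup.zpowers_le]) _
  have h2 : (B ⊓ B').relIndex B' = p := by
    rw [Subgroup.inf_relIndex_right, ← Subgroup.relIndex_sup_right, sup_comm, h1, Subgroup.relIndex_top_right, hB]
  have h3 := Subgroup.relIndex_mul_index (inf_le_right : B ⊓ B' ≤ B')
  rw [h2, hB'] at h3
  exact h3.symm

theorem third_index {p : ℕ} [hp : Fact p.Prime] {B B' : Subgroup A} (hB : B.index = p) (hB' : B'.index = p)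
    (hne : B ≠ B') {c : A} (hc : c ^ p = 1) (hcB : c ∉ B) : ((B ⊓ B') ⊔ Subgroup.zpowers c).index = p := by
  have h1 := inf_index hB hB' hne
  have h2 := Subgroup.relIndex_mul_index (le_sup_left : B ⊓ B' ≤ (B ⊓ B') ⊔ Subgroup.zpowers c)
  rw [h1] at h2
  have hcD : c ∉ B ⊓ B' := fun h => hcB h.1
  have h3 : ((B ⊓ B') ⊔ Subgroup.zpowers c).index ∣ p ^ 2 := ⟨_, by rw [pow_two, ← h2, mul_comm]⟩
  rw [Nat.dvd_prime_pow hp.1] at h3
  obtain ⟨k, hk, h4⟩ := h3
  have hpp : p * p ≠ p := by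
    intro h
    have h5 := Nat.eq_of_mul_eq_mul_right hp.1.pos (h.trans (one_mul p).symm)
    exact hp.1.one_lt.ne' h5
  interval_cases k
  · exfalso
    rw [pow_zero, Subgroup.index_eq_one] at h4
    have h5 := index_of_sup_eq_top (p := p) hc hcD h4
    rw [h1] at h5
    exact hpp h5
  · rw [h4, pow_one]
  · exfalso
    rw [h4, pow_two] at h2
    have h5 : (B ⊓ B').relIndex ((B ⊓ B') ⊔ Subgroup.zpowers c) = 1 :=
      Nat.eq_of_mul_eq_mul_right (Nat.mul_pos hp.1.pos hp.1.pos) (by rw [h2, one_mul])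
    rw [Subgroup.relIndex_eq_one] at h5
    exact hcD (h5 (Subgroup.mem_sup_right (Subgroup.mem_zpowers c)))

end index

section decomp

variable [Finite A] (ρ : A →* Module.End F V) {p : ℕ} [hp : Fact p.Prime] (hA : ∀ a : A, a ^ p = 1)
  (hpF : (p : F) ≠ 0)

/-- the sum of the fixed spaces of the subgroups of index `p` -/
def Y (p : ℕ) : Submodule F V := ⨆ B : {B : Subgroup A // B.index = p}, U ρ B.1

theorem Y_inv (a : A) {v : V} (hv : v ∈ Y ρ p) : ρ a v ∈ Y ρ p := by
  have h : Y ρ p ≤ (Y ρ p).comap (ρ a) := by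
    refine iSup_le fun B => ?_
    intro w hw
    rw [Submodule.mem_comap]
    exact (le_iSup (fun B : {B : Subgroup A // B.index = p} => U ρ B.1) B) (U_inv ρ B.1 a hw)
  exact h hv

include hA hpF in
theorem decomp : ∀ (n : ℕ) (D : Subgroup A), D.index = n → D ≠ ⊤ → U ρ D ≤ Y ρ p := by
  intro n
  induction n using Nat.strong_induction_on with
  | _ n ih =>
  intro D hn hD
  by_cases hDp : D.index = p
  · exact le_iSup (fun B : {B : Subgroup A // B.index = p} => U ρ B.1) ⟨D, hDp⟩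
  have key : ∀ b : A, b ∉ D → ∀ v ∈ U ρ D, N ρ p b v ∈ Y ρ p := by
    intro b hb v hv
    refine ih (D ⊔ Subgroup.zpowers b).index ?_ _ rfl ?_ (N_mem ρ (hA b) hv)
    · rw [← hn]
      have h1 : D < D ⊔ Subgroup.zpowers b := by
        refine lt_of_le_of_ne le_sup_left fun h => hb ?_
        rw [h]
        exact Subgroup.mem_sup_right (Subgroup.mem_zpowers b)
      exact Subgroup.index_strictAnti h1
    · intro h
      exact hDp (index_of_sup_eq_top (hA b) hb h)
  obtain ⟨a, ha⟩ : ∃ a, a ∉ D := by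
    by_contra h
    push Not at h
    exact hD (eq_top_iff.2 fun x _ => h x)
  obtain ⟨a', ha'⟩ : ∃ a', a' ∉ D ⊔ Subgroup.zpowers a := by
    by_contra h
    push Not at h
    exact hDp (index_of_sup_eq_top (hA a) ha (eq_top_iff.2 fun x _ => h x))
  intro v hv
  have h1 : ∀ k : ℕ, a' * a ^ k ∉ D := by
    intro k hk
    apply ha'
    have h2 : a' = (a' * a ^ k) * (a ^ k)⁻¹ := by group
    rw [h2]
    exact Subgroup.mul_mem _ (Subgroup.mem_sup_left hk)
      (Subgroup.inv_mem _ (Subgroup.mem_sup_right (Subgroup.pow_mem _ (Subgroup.mem_zpowers a) k)))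
  have h2 : ∑ k ∈ range p, N ρ p (a' * a ^ k) v ∈ Y ρ p :=
    Submodule.sum_mem _ fun k _ => key _ (h1 k) v hv
  have h3 : ∑ k ∈ range p, N ρ p (a' * a ^ k) v =
      ∑ i ∈ range p, ρ (a' ^ i) (N ρ p (a ^ i) v) := by
    simp only [N, map_sum]
    rw [Finset.sum_comm]
    refine Finset.sum_congr rfl fun i _ => Finset.sum_congr rfl fun k _ => ?_
    rw [← rho_mul, mul_pow, ← pow_mul, ← pow_mul, mul_comm k i]
  obtain ⟨q, hq⟩ : ∃ q, p = q + 1 := ⟨p - 1, by have := hp.1.pos; omega⟩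
  have h4 : ∑ i ∈ range p, ρ (a' ^ i) (N ρ p (a ^ i) v) =
      (∑ i ∈ range q, ρ (a' ^ (i + 1)) (N ρ p (a ^ (i + 1)) v)) + (p : F) • v := by
    conv_lhs => rw [hq, Finset.sum_range_succ']
    rw [← hq]
    congr 1
    rw [pow_zero, pow_zero, rho_one, N]
    simp only [one_pow, rho_one, Finset.sum_const, Finset.card_range]
    rw [Nat.cast_smul_eq_nsmul]
  rw [h3, h4] at h2
  have h5 : ∑ i ∈ range q, ρ (a' ^ (i + 1)) (N ρ p (a ^ (i + 1)) v) ∈ Y ρ p := by
    refine Submodule.sum_mem _ fun i hi => Y_inv ρ _ ?_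
    refine key _ (pow_notMem (hA a) ha ?_) v hv
    rw [Finset.mem_range] at hi
    refine ((Nat.Prime.coprime_iff_not_dvd hp.1).2 fun h => ?_).symm
    have := Nat.le_of_dvd (Nat.succ_pos i) h
    omega
  have h6 : (p : F) • v ∈ Y ρ p := (Submodule.add_mem_iff_right _ h5).1 h2
  have h7 := Submodule.smul_mem _ ((p : F)⁻¹) h6
  rwa [smul_smul, inv_mul_cancel₀ hpF, one_smul] at h7

include hA hpF in
theorem Y_top (hfix : ∀ v : V, (∀ a, ρ a v = v) → v = 0) : Y ρ p = ⊤ := by
  by_cases h : (⊥ : Subgroup A) = ⊤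
  · rw [eq_top_iff]
    intro v _
    have h1 : v = 0 := by
      apply hfix
      intro a
      have : a ∈ (⊥ : Subgroup A) := by rw [h]; exact Subgroup.mem_top a
      rw [Subgroup.mem_bot.1 this, rho_one]
    rw [h1]
    exact Submodule.zero_mem _
  · rw [eq_top_iff]
    intro v _
    refine decomp ρ hA hpF _ ⊥ rfl h ?_
    intro b hb
    rw [Subgroup.mem_bot.1 hb, rho_one]

end decomp

end Cfsg.Agent.H972.Seitz.Rep
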