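import Cfsg.Agent.H972.Seitz.MixC
import Cfsg.Agent.ClassicalGeometry.SympAutSemi
import Cfsg.Agent.S0765

/-!
# Generation of `Sp_2m(q)` by the centralizers of the hyperplanes of an anisotropic elementary abelian group
-/

set_option autoImplicit false
set_option linter.unusedSectionVars false

namespace Cfsg.Agent.H972.Seitz.Sp

open Cfsg Matrix Cfsg.Agent.ClassicalGeometry.SympBasic Cfsg.Agent.ClassicalGeometry.SympAutSemi
open Cfsg.Agent.H972.Seitz.Rep

variable {m : ℕ} {F : Type*} [Field F]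

/-- the operator of a symplectic matrix -/
def op (m : ℕ) (F : Type*) [Field F] : Matrix.symplecticGroup (Fin m) F →* Module.End F (Fin m ⊕ Fin m → F) :=
  ((Matrix.toLinAlgEquiv' : Matrix (Fin m ⊕ Fin m) (Fin m ⊕ Fin m) F ≃ₐ[F] _).toAlgHom.toMonoidHom).comp
    (Matrix.symplecticGroup (Fin m) F).subtype

theorem op_apply (g : Matrix.symplecticGroup (Fin m) F) (v : Fin m ⊕ Fin m → F) :
    op m F g v = (g : Matrix (Fin m ⊕ Fin m) (Fin m ⊕ Fin m) F) *ᵥ v := rfl

/-- the vectors all of whose transvections lie in `K` -/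
def Del (K : Subgroup (Matrix.symplecticGroup (Fin m) F)) : Set (Fin m ⊕ Fin m → F) :=
  {v | ∀ c : F, transv v c ∈ K}

theorem conj_transv (A : Matrix.symplecticGroup (Fin m) F) (v : Fin m ⊕ Fin m → F) (c : F) :
    A * transv v c * A⁻¹ = transv ((A : Matrix (Fin m ⊕ Fin m) (Fin m ⊕ Fin m) F) *ᵥ v) c := by
  rw [mul_inv_eq_iff_eq_mul]
  apply Subtype.ext
  exact mul_sympTransvection A.2 v c

theorem Del_mul {K : Subgroup (Matrix.symplecticGroup (Fin m) F)} {A : Matrix.symplecticGroup (Fin m) F} (hA : A ∈ K)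
    {v : Fin m ⊕ Fin m → F} (hv : v ∈ Del K) : (A : Matrix (Fin m ⊕ Fin m) (Fin m ⊕ Fin m) F) *ᵥ v ∈ Del K := by
  intro c
  rw [← conj_transv]
  exact K.mul_mem (K.mul_mem hA (hv c)) (K.inv_mem hA)

theorem Del_add {K : Subgroup (Matrix.symplecticGroup (Fin m) F)} {u v : Fin m ⊕ Fin m → F} (hu : u ∈ Del K)
    (hv : v ∈ Del K) (h : sympForm m F v u ≠ 0) : v + u ∈ Del K := by
  have h1 := Del_mul (hu ((sympForm m F v u)⁻¹)) hv
  rwa [coe_transv, sympTransvection_mulVec, inv_mul_cancel₀ h, one_smul] at h1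

theorem exists_of_iso (g : (Fin m ⊕ Fin m → F) ≃ₗ[F] (Fin m ⊕ Fin m → F))
    (h : ∀ v w, sympForm m F (g v) (g w) = sympForm m F v w) :
    ∃ A : Matrix.symplecticGroup (Fin m) F, ∀ v, (A : Matrix (Fin m ⊕ Fin m) (Fin m ⊕ Fin m) F) *ᵥ v = g v := by
  obtain ⟨A, hA⟩ := exists_rho_eq (m := m) (F := F) g.toEquiv (fun u v => g.map_add u v) (fun c v => g.map_smul c v)
    (fun u v => h u v)
  refine ⟨A, fun v => ?_⟩
  have := DFunLike.congr_fun hA v
  rw [rho_apply] at this
  exact this

/-- **`Sp_2m(q)` is generated by the centralizers of the hyperplanes** of an elementary abelian `p`-group which leaves no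
totally isotropic subspace invariant. -/
theorem sp_top [Finite F] {p : ℕ} [hp : Fact p.Prime] (hp2 : p ≠ 2) (hpF : (p : F) ≠ 0) (hp3 : p = 3 → (2 : F) ≠ 0)
    {A : Type*} [CommGroup A] [Finite A] (ι : A →* Matrix.symplecticGroup (Fin m) F) (hA : ∀ a : A, a ^ p = 1)
    (haniso : ∀ W : Submodule F (Fin m ⊕ Fin m → F),
      (∀ a : A, ∀ w ∈ W, ((ι a : Matrix.symplecticGroup (Fin m) F) : Matrix (Fin m ⊕ Fin m) (Fin m ⊕ Fin m) F) *ᵥ w ∈ W) →
      (∀ x ∈ W, ∀ y ∈ W, sympForm m F x y = 0) → W = ⊥)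
    (K : Subgroup (Matrix.symplecticGroup (Fin m) F))
    (hK : ∀ B : Subgroup A, B.index = p → Subgroup.centralizer ((B.map ι : Subgroup _) : Set _) ≤ K) : K = ⊤ := by
  have hgen : transvGroup m F = ⊤ := Cfsg.Agent.S0765.result m
  let ρ : A →* Module.End F (Fin m ⊕ Fin m → F) := (op m F).comp ι
  have hρ : ∀ a v, ρ a v = ((ι a : Matrix.symplecticGroup (Fin m) F) :
      Matrix (Fin m ⊕ Fin m) (Fin m ⊕ Fin m) F) *ᵥ v := fun a v => rfl
  have C : Ctx ρ (sympBilin m F) p :=
    { exp := hA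
      pF := hpF
      p2 := hp2
      p3 := hp3
      alt := fun v => sympForm_self v
      nd := fun w hw => eq_zero_of_forall_sympForm_left hw
      inv := fun a v w => sympForm_mulVec (ι a).2 v w
      aniso := fun W h1 h2 => haniso W h1 h2 }
  have hall : ∀ v, v ∈ Del K := by
    intro v
    refine delta_top C (Δ := Del K) ?_ ?_ ?_ ?_ v
    · intro B hB g hg hgB v hv
      obtain ⟨X, hX⟩ := exists_of_iso g hg
      have hXK : X ∈ K := by
        apply hK B hB
        rw [Subgroup.mem_centralizer_iff]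
        rintro _ ⟨b, hb, rfl⟩
        apply Subtype.ext
        rw [← Matrix.mulVec_injective.eq_iff]
        funext w
        rw [coe_mul_mulVec, coe_mul_mulVec, hX, hX, ← hρ, ← hρ]
        exact (hgB b hb w).symm
      rw [← hX]
      exact Del_mul hXK hv
    · intro B hB v hv c
      apply hK B hB
      rw [Subgroup.mem_centralizer_iff]
      rintro _ ⟨b, hb, rfl⟩
      have h1 := conj_transv (ι b) v c
      rw [← hρ, hv b hb] at h1
      rwa [mul_inv_eq_iff_eq_mul] at h1
    · intro c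
      have : (transv (0 : Fin m ⊕ Fin m → F) c) = 1 := by
        apply Subtype.ext
        rw [coe_transv, ← zero_smul F (0 : Fin m ⊕ Fin m → F), sympTransvection_smul]
        rw [zero_pow two_ne_zero, zero_mul, sympTransvection_zero]
        rfl
      rw [this]
      exact K.one_mem
    · intro u hu v hv h
      exact Del_add hu hv h
  rw [eq_top_iff, ← hgen, transvGroup, Subgroup.closure_le]
  rintro X ⟨w, c, hX⟩
  have : X = transv w c := Subtype.ext hX
  rw [this]
  exact hall w c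

end Cfsg.Agent.H972.Seitz.Sp
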